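import Mathlib
import Cfsg.Agent.Lib.Helper49.RUW.Defs
import Cfsg.Agent.Lib.Helper57.RUW.Basic
import Cfsg.Agent.Lib.Helper73.DihedralIso

/-!
# Project RUW: package [DIH]
-/

set_option autoImplicit false

namespace Cfsg.Agent.Lib.Helper57.RUW

open Cfsg.Agent.Lib.Helper49.RUW

universe u

/-- conjugation `cj t x = t x t⁻¹`. -/
def cj {T : Type u} [Group T] (t x : T) : T := t * x * t⁻¹

theorem cj_mul_left {T : Type u} [Group T] (s t x : T) : cj (s * t) x = cj s (cj t x) := by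
  unfold cj; group

theorem cj_mul_right {T : Type u} [Group T] (t x y : T) : cj t (x * y) = cj t x * cj t y := by
  unfold cj; group

theorem cj_eq {T : Type u} [Group T] (t x : T) : cj t x = x * cg t x := conj_eq_mul_cg t x

/-- **[DIH]** -/
theorem pkgDih : PkgDih.{u} := by
  intro T _ _ _ W hW hA hexp
  haveI hWn : W.Normal := hA.Wn
  refine ⟨hWn, ?_⟩
  obtain ⟨x₁, x₂, x₃, D⟩ := exists_gens hA.c1 hA.c2 hA.c3
  have hsurj : ∀ y, ∃ t, D.sepMap t = y := by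
    intro y
    apply exists_of_sep
      (Subgroup.centralizer ((Subgroup.upperCentralSeries T 3 : Subgroup T) : Set T))
      D.sepMap D.sepMap_sep
    rw [Nat.card_prod, hA.c1, hA.c2, ← hW, hA.idx]
  obtain ⟨a, ha⟩ := hsurj (⟨x₁, D.m1⟩, ⟨x₂, D.m2⟩)
  obtain ⟨b, hb⟩ := hsurj (⟨x₁, D.m1⟩, ⟨1, Subgroup.one_mem _⟩)
  have ha2 : cg a x₂ = x₁ := congrArg (fun p => (p.1 : T)) ha
  have ha3 : cg a x₃ = x₂ := congrArg (fun p => (p.2 : T)) ha
  have hb2 : cg b x₂ = x₁ := congrArg (fun p => (p.1 : T)) hb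
  have hb3 : cg b x₃ = 1 := congrArg (fun p => (p.2 : T)) hb
  have sq1 : x₁ * x₁ = 1 := by rw [← pow_two]; exact hexp x₁ (D.le23 (D.le12 D.m1))
  have sq2 : x₂ * x₂ = 1 := by rw [← pow_two]; exact hexp x₂ (D.le23 D.m2)
  have c1 : ∀ t, cj t x₁ = x₁ := by
    intro t; unfold cj; rw [D.x1_central t]; group
  have a2 : cj a x₂ = x₂ * x₁ := by rw [cj_eq, ha2]
  have a3 : cj a x₃ = x₃ * x₂ := by rw [cj_eq, ha3]
  have b2 : cj b x₂ = x₂ * x₁ := by rw [cj_eq, hb2]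
  have b3 : cj b x₃ = x₃ := by rw [cj_eq, hb3, mul_one]
  have memW : ∀ t, cj t x₂ = x₂ → cj t x₃ = x₃ → t ∈ W := by
    intro t h2 h3
    rw [hW]
    apply D.mem_W_iff.mpr
    constructor
    · rw [cj_eq] at h2; exact mul_eq_left.mp h2
    · rw [cj_eq] at h3; exact mul_eq_left.mp h3
  have notW : ∀ t, cj t x₃ ≠ x₃ → t ∉ W := by
    intro t h hW'
    rw [hW] at hW'
    have := (D.mem_W_iff.mp hW').2
    apply h; rw [cj_eq, this, mul_one]
  have aa2 : cj (a * a) x₂ = x₂ := by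
    rw [cj_mul_left, a2, cj_mul_right, a2, c1, mul_assoc, sq1, mul_one]
  have aa3 : cj (a * a) x₃ = x₃ * x₁ := by
    rw [cj_mul_left, a3, cj_mul_right, a3, a2, mul_assoc, ← mul_assoc x₂, sq2, one_mul]
  have hx31 : x₃ * x₁ ≠ x₃ := fun h => D.ne1 (mul_eq_left.mp h)
  have haaW : a * a ∉ W := notW _ (by rw [aa3]; exact hx31)
  have ha4W : a * a * (a * a) ∈ W := by
    apply memW
    · rw [cj_mul_left, aa2, aa2]
    · rw [cj_mul_left, aa3, cj_mul_right, aa3, c1, mul_assoc, sq1, mul_one]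
  have hbbW : b * b ∈ W := by
    apply memW
    · rw [cj_mul_left, b2, cj_mul_right, b2, c1, mul_assoc, sq1, mul_one]
    · rw [cj_mul_left, b3, b3]
  have ba2 : cj (b * a) x₂ = x₂ := by
    rw [cj_mul_left, a2, cj_mul_right, b2, c1, mul_assoc, sq1, mul_one]
  have ba3 : cj (b * a) x₃ = x₃ * (x₂ * x₁) := by
    rw [cj_mul_left, a3, cj_mul_right, b3, b2]
  have h21sq : x₂ * x₁ * (x₂ * x₁) = 1 := by
    calc x₂ * x₁ * (x₂ * x₁) = x₂ * (x₁ * x₂) * x₁ := by group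
      _ = x₂ * (x₂ * x₁) * x₁ := by rw [← D.x1_central x₂]
      _ = (x₂ * x₂) * (x₁ * x₁) := by group
      _ = 1 := by rw [sq1, sq2, mul_one]
  have hbabaW : b * a * (b * a) ∈ W := by
    apply memW
    · rw [cj_mul_left, ba2, ba2]
    · rw [cj_mul_left, ba3, cj_mul_right, cj_mul_right, ba3, ba2, c1, mul_assoc, h21sq, mul_one]
  -- the quotient
  have e1 : ¬ ((a : T ⧸ W)) ^ 2 = 1 := by
    intro h
    apply haaW
    rw [← QuotientGroup.eq_one_iff, QuotientGroup.mk_mul, ← pow_two]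
    exact h
  have e2 : ((a : T ⧸ W)) ^ 4 = 1 := by
    have h : ((a * a * (a * a) : T) : T ⧸ W) = 1 := (QuotientGroup.eq_one_iff _).mpr ha4W
    rw [QuotientGroup.mk_mul, QuotientGroup.mk_mul] at h
    rw [show (4 : ℕ) = 2 + 2 from rfl, pow_add, pow_two]; exact h
  have e3 : ((b : T ⧸ W)) ^ 2 = 1 := by
    have h : ((b * b : T) : T ⧸ W) = 1 := (QuotientGroup.eq_one_iff _).mpr hbbW
    rw [QuotientGroup.mk_mul] at h
    rw [pow_two]; exact h
  have e4 : (b : T ⧸ W) * (a : T ⧸ W) * ((b : T ⧸ W) * (a : T ⧸ W)) = 1 := by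
    have h : ((b * a * (b * a) : T) : T ⧸ W) = 1 := (QuotientGroup.eq_one_iff _).mpr hbabaW
    rw [QuotientGroup.mk_mul, QuotientGroup.mk_mul] at h
    exact h
  have hord : orderOf (a : T ⧸ W) = 4 := by
    have h := orderOf_eq_prime_pow (p := 2) (n := 1) (x := (a : T ⧸ W))
      (by simpa using e1) (by simpa using e2)
    simpa using h
  have hbinv : ((b : T ⧸ W))⁻¹ = (b : T ⧸ W) := by
    apply inv_eq_of_mul_eq_one_left; rw [← pow_two]; exact e3
  have hconj : (b : T ⧸ W) * (a : T ⧸ W) * ((b : T ⧸ W))⁻¹ = ((a : T ⧸ W))⁻¹ := by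
    rw [hbinv]
    apply eq_inv_of_mul_eq_one_left
    rw [← e4]; group
  have hnot : (b : T ⧸ W) ∉ Subgroup.zpowers (a : T ⧸ W) := by
    intro hmem
    obtain ⟨k, hk⟩ := Subgroup.mem_zpowers_iff.mp hmem
    have hcomm : (b : T ⧸ W) * (a : T ⧸ W) = (a : T ⧸ W) * (b : T ⧸ W) := by
      rw [← hk]; group
    have h1 : ((a : T ⧸ W))⁻¹ = (a : T ⧸ W) := by
      rw [← hconj, hcomm]; group
    apply e1
    rw [pow_two]
    calc (a : T ⧸ W) * (a : T ⧸ W) = ((a : T ⧸ W))⁻¹ * (a : T ⧸ W) := by rw [h1]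
      _ = 1 := inv_mul_cancel _
  exact Cfsg.Agent.Lib.Helper73.nonempty_mulEquiv_dihedralGroup 4 (a : T ⧸ W) (b : T ⧸ W)
    hord e3 hconj hnot (by
      have h : Nat.card (T ⧸ W) = W.index := rfl
      rw [h, hA.idx])

end Cfsg.Agent.Lib.Helper57.RUW
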